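import Mathlib
import Cfsg.Agent.Transfer.PResidual
import Cfsg.Agent.Solvable.Basics
import Cfsg.Agent.PLocal.SubnormalJoin

/-!
A `p`-element centralising the normalizer of a Sylow `p`-subgroup is trivial when `O^p` has the
torus pattern of a rank one group of Lie type and `O_p = 1`.
-/

set_option autoImplicit false
set_option linter.style.haveILetI false
set_option linter.unusedSectionVars false

namespace CfsgLib.RankOneTorus

open Subgroup

/-- The torus pattern of `SL_2(q)`, `SU_3(q)` and their central quotients for `p ≥ 5`. -/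
structure Pattern {K : Type*} [Group K] (p : ℕ) (U V : Subgroup K) (h : K) : Prop where
  memU : h ∈ normalizer (U : Set K)
  memV : h ∈ normalizer (V : Set K)
  cyc : IsCyclic (↥(normalizer (U : Set K)) ⧸ U.subgroupOf (normalizer (U : Set K)))
  pow : h ^ (p - 1) ∈ U
  decomp : ∀ Q : Sylow p K, (Q : Subgroup K) = U ∨
    ∃ u ∈ U, (Q : Subgroup K) = V.map (MulAut.conj u).toMonoidHom
  trivU : ∀ u ∈ U, u ∈ normalizer (V : Set K) → u = 1
  centU : ∀ u ∈ U, h * u = u * h → u = 1
  gen : U ⊔ V = ⊤

/-- A group with some torus pattern. -/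
def HasPattern (p : ℕ) (K : Type*) [Group K] : Prop :=
  ∃ (U V : Sylow p K) (h : K), Pattern p (U : Subgroup K) (V : Subgroup K) h

section Transport

variable {K L : Type*} [Group K] [Group L] {p : ℕ} {U V : Subgroup K} {h : K}

theorem mem_map_equiv' (e : K ≃* L) {H : Subgroup K} {x : K} :
    e x ∈ H.map e.toMonoidHom ↔ x ∈ H :=
  ⟨fun ⟨_, hy, hxy⟩ => e.injective hxy ▸ hy, fun hx => ⟨x, hx, rfl⟩⟩

theorem mem_normalizer_map (e : K ≃* L) {H : Subgroup K} {x : K} :
    e x ∈ normalizer ((H.map e.toMonoidHom : Subgroup L) : Set L) ↔ x ∈ normalizer (H : Set K) := by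
  rw [mem_normalizer_iff, mem_normalizer_iff]
  constructor
  · intro hx y
    have := hx (e y)
    rwa [← map_mul, ← map_inv, ← map_mul, mem_map_equiv', mem_map_equiv'] at this
  · intro hx z
    obtain ⟨y, rfl⟩ := e.surjective z
    rw [← map_mul, ← map_inv, ← map_mul, mem_map_equiv', mem_map_equiv']
    exact hx y

theorem Pattern.map_equiv [Finite K] [Fact p.Prime] (D : Pattern p U V h) (e : K ≃* L) :
    Pattern p (U.map e.toMonoidHom) (V.map e.toMonoidHom) (e h) where
  memU := (mem_normalizer_map e).2 D.memU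
  memV := (mem_normalizer_map e).2 D.memV
  cyc := by
    haveI := D.cyc
    set NU := normalizer (U : Set K)
    set NL := normalizer ((U.map e.toMonoidHom : Subgroup L) : Set L)
    let f : ↥NU →* ↥NL := (e.toMonoidHom.comp NU.subtype).codRestrict NL
      fun x => (mem_normalizer_map e).2 x.2
    refine isCyclic_of_surjective (QuotientGroup.map (U.subgroupOf NU) ((U.map e.toMonoidHom).subgroupOf NL)
      f fun x hx => ?_) ?_
    · rw [mem_comap, mem_subgroupOf]
      exact ⟨_, mem_subgroupOf.1 hx, rfl⟩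
    · intro y
      obtain ⟨⟨z, hz⟩, rfl⟩ := QuotientGroup.mk_surjective y
      obtain ⟨x, rfl⟩ := e.surjective z
      exact ⟨QuotientGroup.mk (⟨x, (mem_normalizer_map e).1 hz⟩ : ↥NU), rfl⟩
  pow := by rw [← map_pow]; exact (mem_map_equiv' e).2 D.pow
  decomp Q := by
    haveI : Finite L := Finite.of_equiv K e.toEquiv
    have hidx : ¬ p ∣ ((Q : Subgroup L).map e.symm.toMonoidHom).index := fun hd =>
      Q.not_dvd_index (hd.trans (index_map_dvd _ e.symm.surjective))
    let Q' : Sylow p K := (Q.isPGroup'.map e.symm.toMonoidHom).toSylow hidx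
    have hQ : ((Q' : Subgroup K)).map e.toMonoidHom = (Q : Subgroup L) := by
      change ((Q : Subgroup L).map e.symm.toMonoidHom).map e.toMonoidHom = _
      rw [map_map]
      convert map_id (Q : Subgroup L) using 2
      ext y
      simp
    rcases D.decomp Q' with h1 | ⟨u, hu, h1⟩
    · exact Or.inl (by rw [← hQ, h1])
    · refine Or.inr ⟨e u, ⟨u, hu, rfl⟩, ?_⟩
      rw [← hQ, h1, map_map, map_map]
      congr 1
      ext y
      simp
  trivU x hx hn := by
    obtain ⟨u, hu, rfl⟩ := hx
    rw [D.trivU u hu ((mem_normalizer_map e).1 hn), map_one]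
  centU x hx hc := by
    obtain ⟨u, hu, rfl⟩ := hx
    rw [D.centU u hu (e.injective (by simpa using hc)), map_one]
  gen := by
    rw [← Subgroup.map_sup, D.gen, map_top_of_surjective]
    exact e.surjective

theorem HasPattern.of_mulEquiv [Finite K] [Fact p.Prime] (e : K ≃* L) (hK : HasPattern p K) :
    HasPattern p L := by
  haveI : Finite L := Finite.of_equiv K e.toEquiv
  obtain ⟨U, V, h, D⟩ := hK
  exact ⟨U.mapSurjective (f := e.toMonoidHom) e.surjective,
    V.mapSurjective (f := e.toMonoidHom) e.surjective, e h, D.map_equiv e⟩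

theorem HasPattern.at_sylow [Finite K] [Fact p.Prime] (hK : HasPattern p K) (P : Sylow p K) :
    ∃ (V : Sylow p K) (h : K), Pattern p (P : Subgroup K) (V : Subgroup K) h := by
  obtain ⟨U, V, h, D⟩ := hK
  obtain ⟨g, hg⟩ := MulAction.exists_smul_eq K U P
  refine ⟨V.mapSurjective (f := (MulAut.conj g).toMonoidHom) (MulAut.conj g).surjective, MulAut.conj g h, ?_⟩
  have := D.map_equiv (MulAut.conj g)
  rw [← hg]
  exact this

end Transport

/-- An endomorphism of `p`-power order of a cyclic group fixes elements of order dividing `p - 1`. -/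
theorem fix_of_cyclic {p : ℕ} [Fact p.Prime] {C : Type*} [Group C] [IsCyclic C] (τ : MulAut C)
    {n : ℕ} (hτ : τ ^ p ^ n = 1) {y : C} (hy : y ^ (p - 1) = 1) : τ y = y := by
  obtain ⟨m, hm⟩ := MonoidHom.map_cyclic τ.toMonoidHom
  have hit : ∀ k : ℕ, (τ ^ k) y = y ^ (m ^ k) := by
    intro k
    induction k with
    | zero => simp
    | succ k ih =>
      rw [pow_succ', MulAut.mul_apply, ih]
      change τ.toMonoidHom _ = _
      rw [hm, ← zpow_mul, ← pow_succ]
  have h1 : y ^ (m ^ p ^ n) = y ^ (1 : ℤ) := by rw [← hit, hτ]; simp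
  have hp1 : 0 < p - 1 := by have := (Fact.out : p.Prime).two_le; omega
  have hd : orderOf y ∣ p - 1 := orderOf_dvd_of_pow_eq_one hy
  haveI : NeZero (orderOf y) := ⟨(Nat.pos_of_dvd_of_pos hd hp1).ne'⟩
  rw [zpow_eq_zpow_iff_modEq, ← ZMod.intCast_eq_intCast_iff] at h1
  push_cast at h1
  have hu : IsUnit (m : ZMod (orderOf y)) :=
    (isUnit_pow_iff (pow_ne_zero n (Fact.out : p.Prime).ne_zero)).1 (h1 ▸ isUnit_one)
  obtain ⟨w, hw⟩ := hu
  have h2 : w ^ p ^ n = 1 := Units.ext (by rw [Units.val_pow_eq_pow_val, hw, h1, Units.val_one])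
  have hcop : Nat.Coprime (p ^ n) (Nat.card (ZMod (orderOf y))ˣ) := by
    refine Nat.Coprime.pow_left _ ((Nat.Prime.coprime_iff_not_dvd Fact.out).2 fun hdv => ?_)
    have hle := Nat.le_of_dvd Nat.card_pos hdv
    rw [Nat.card_eq_fintype_card, ZMod.card_units_eq_totient] at hle
    have := Nat.totient_le (orderOf y)
    have := Nat.le_of_dvd hp1 hd
    omega
  have h3 : w = 1 := (pow_eq_one_iff_of_coprime hcop).1 ⟨h2, pow_card_eq_one'⟩
  change τ.toMonoidHom y = y
  rw [hm]
  conv_rhs => rw [← zpow_one y]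
  rw [zpow_eq_zpow_iff_modEq, ← ZMod.intCast_eq_intCast_iff, ← hw, h3]
  simp

section Main

variable {X : Type*} [Group X] [Finite X] {p : ℕ} [hp : Fact p.Prime]

/-- A `p`-element normalizing a Sylow subgroup lies in it. -/
theorem mem_sylow_of_normalizer (Q : Sylow p X) {g : X} (hg : g ∈ normalizer ((Q : Subgroup X) : Set X))
    (hpg : ∃ k : ℕ, g ^ p ^ k = 1) : g ∈ (Q : Subgroup X) := by
  obtain ⟨k, hk⟩ := hpg
  have hz : IsPGroup p ↥(zpowers g) := by
    refine IsPGroup.of_card (n := (Nat.dvd_prime_pow hp.out).1 (orderOf_dvd_of_pow_eq_one hk) |>.choose) ?_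
    rw [Nat.card_zpowers]
    exact ((Nat.dvd_prime_pow hp.out).1 (orderOf_dvd_of_pow_eq_one hk)).choose_spec.2
  have := (hz.to_sup_of_normal_right' Q.isPGroup' (zpowers_le.2 hg))
  exact (Q.3 this le_sup_right).le (le_sup_left (b := (Q : Subgroup X)) (mem_zpowers g))

theorem map_pCore_le (N : Subgroup X) [N.Normal] :
    (Cfsg.pCore p ↥N).map N.subtype ≤ Cfsg.pCore p X := by
  haveI : (Cfsg.pCore p ↥N).Characteristic := characteristic_iff_map_le.mpr fun φ =>
    Solvable.le_pCore p ((Solvable.pCore_normal p).map _ φ.surjective) ((Solvable.isPGroup_pCore p).map _)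
  exact Solvable.le_pCore p ConjAct.normal_of_characteristic_of_normal ((Solvable.isPGroup_pCore p).map _)

theorem eq_one_of_commute_normalizer (K : Subgroup X) [K.Normal] (hKp : ∃ k, K.index = p ^ k)
    (hO : Cfsg.pCore p X = ⊥) (hK : HasPattern p ↥K) (S : Sylow p X) {x : X}
    (hx : x ∈ (S : Subgroup X))
    (hc : ∀ g ∈ normalizer ((S : Subgroup X) : Set X), x * g = g * x) : x = 1 := by
  classical
  set U0 : Subgroup ↥K := (S : Subgroup X).subgroupOf K
  obtain ⟨P0, hP0⟩ : ∃ P : Sylow p ↥K, (P : Subgroup ↥K) = U0 := by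
    obtain ⟨P⟩ : Nonempty (Sylow p ↥K) := inferInstance
    obtain ⟨R, hR⟩ := (P.isPGroup'.map K.subtype).exists_le_sylow
    obtain ⟨g, hg⟩ := MulAction.exists_smul_eq X R S
    set α : MulAut ↥K := MulAut.conjNormal g
    refine ⟨P.mapSurjective (f := α.toMonoidHom) α.surjective, ((P.mapSurjective (f := α.toMonoidHom) α.surjective).3
      (IsPGroup.comap_of_injective S.isPGroup' K.subtype K.subtype_injective) ?_).symm⟩
    rintro _ ⟨k, hk, rfl⟩
    rw [mem_comap, ← hg]
    change K.subtype (α k) ∈ (R : Subgroup X).map (MulAut.conj g).toMonoidHom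
    exact ⟨k, hR ⟨k, hk, rfl⟩, by simp [α, MulAut.conjNormal_apply]⟩
  obtain ⟨V, h, D⟩ := hK.at_sylow P0
  have hSn : ∀ s ∈ (S : Subgroup X), s ∈ normalizer ((S : Subgroup X) : Set X) := fun s hs => le_normalizer hs
  have hpS : ∀ s ∈ (S : Subgroup X), ∃ n : ℕ, s ^ p ^ n = 1 := fun s hs => by
    obtain ⟨n, hn⟩ := S.isPGroup' ⟨s, hs⟩
    exact ⟨n, congrArg Subtype.val hn⟩
  -- the torus element normalizes `S`
  set B := normalizer ((P0 : Subgroup ↥K) : Set ↥K)
  have hhS : (h : X) ∈ normalizer ((S : Subgroup X) : Set X) := by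
    suffices h' : (h : X)⁻¹ ∈ normalizer ((S : Subgroup X) : Set X) from inv_mem_iff.1 h'
    have key : ∀ s ∈ (S : Subgroup X), (h : X)⁻¹ * s * (h : X)⁻¹⁻¹ ∈ (S : Subgroup X) := by
      intro s hs
      set σ : MulAut ↥K := MulAut.conjNormal s
      have hσU : ∀ k : ↥K, σ k ∈ (P0 : Subgroup ↥K) ↔ k ∈ (P0 : Subgroup ↥K) := by
        intro k
        rw [hP0, mem_subgroupOf, mem_subgroupOf, MulAut.conjNormal_apply]
        exact (mem_normalizer_iff.1 (hSn s hs) _).symm
      have hmapU : (P0 : Subgroup ↥K).map σ.toMonoidHom = P0 := by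
        ext k
        constructor
        · rintro ⟨z, hz, rfl⟩; exact (hσU z).2 hz
        · intro hk; exact ⟨σ.symm k, (hσU _).1 (by rwa [MulEquiv.apply_symm_apply]), σ.apply_symm_apply k⟩
      have hσB : ∀ k : ↥K, σ k ∈ B ↔ k ∈ B := fun k => by
        have := mem_normalizer_map σ (H := (P0 : Subgroup ↥K)) (x := k)
        rwa [hmapU] at this
      haveI : IsCyclic (↥B ⧸ (P0 : Subgroup ↥K).subgroupOf B) := D.cyc
      let σB : ↥B ≃* ↥B :=
        { toFun := fun k => ⟨σ k, (hσB _).2 k.2⟩
          invFun := fun k => ⟨σ.symm k, (hσB _).1 (by rw [MulEquiv.apply_symm_apply]; exact k.2)⟩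
          left_inv := fun k => Subtype.ext (σ.symm_apply_apply _)
          right_inv := fun k => Subtype.ext (σ.apply_symm_apply _)
          map_mul' := fun a b => Subtype.ext (map_mul σ _ _) }
      let τ : MulAut (↥B ⧸ (P0 : Subgroup ↥K).subgroupOf B) :=
        QuotientGroup.congr _ _ σB (by
          ext k
          constructor
          · rintro ⟨z, hz, rfl⟩; exact (hσU _).2 hz
          · intro hk
            exact ⟨σB.symm k, (hσU (σB.symm k : ↥K)).1 (by
              change σ (σ.symm (k : ↥K)) ∈ _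
              rw [MulEquiv.apply_symm_apply]; exact hk), σB.apply_symm_apply k⟩)
      obtain ⟨n, hn⟩ := hpS s hs
      have hit : ∀ (j : ℕ) (b : ↥B), (τ ^ j) (QuotientGroup.mk b) = QuotientGroup.mk ((σB ^ j : MulAut ↥B) b) := by
        intro j
        induction j with
        | zero => intro b; rfl
        | succ j ih =>
          intro b
          rw [pow_succ', MulAut.mul_apply, ih, pow_succ', MulAut.mul_apply]
          rfl
      have hσBn : ∀ (j : ℕ) (b : ↥B), (((σB ^ j : MulAut ↥B) b : ↥K) : X) = s ^ j * b * (s ^ j)⁻¹ := by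
        intro j
        induction j with
        | zero => intro b; simp
        | succ j ih =>
          intro b
          rw [pow_succ', MulAut.mul_apply]
          change s * (((σB ^ j : MulAut ↥B) b : ↥K) : X) * s⁻¹ = _
          rw [ih, pow_succ']
          group
      have hτn : τ ^ p ^ n = 1 := by
        refine MulEquiv.ext fun q => ?_
        obtain ⟨b, rfl⟩ := QuotientGroup.mk_surjective q
        rw [hit]
        refine congrArg _ (Subtype.ext (Subtype.ext ?_))
        rw [hσBn, hn]; simp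
      set y : ↥B ⧸ (P0 : Subgroup ↥K).subgroupOf B := QuotientGroup.mk ⟨h, D.memU⟩
      have hy : y ^ (p - 1) = 1 := by
        rw [← QuotientGroup.mk_pow, QuotientGroup.eq_one_iff, mem_subgroupOf]
        exact D.pow
      have hfix : τ y = y := fix_of_cyclic τ hτn hy
      change QuotientGroup.mk (σB ⟨h, D.memU⟩) = _ at hfix
      rw [QuotientGroup.eq, mem_subgroupOf] at hfix
      change (σ h)⁻¹ * h ∈ (P0 : Subgroup ↥K) at hfix
      rw [hP0, mem_subgroupOf] at hfix
      push_cast at hfix
      rw [MulAut.conjNormal_apply] at hfix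
      have h2 := mul_mem (inv_mem hs) (mul_mem hfix hs)
      have h3 : s⁻¹ * ((s * (h : X) * s⁻¹)⁻¹ * (h : X) * s) = ((h : X)⁻¹ * s⁻¹ * h) * s := by group
      rw [h3] at h2
      have h4 : (h : X)⁻¹ * s⁻¹ * h ∈ (S : Subgroup X) := by
        have := mul_mem h2 (inv_mem hs)
        rwa [mul_inv_cancel_right] at this
      exact inv_mem_iff.1 (by simpa [mul_assoc] using h4)
    generalize (h : X)⁻¹ = g at key ⊢
    rw [mem_normalizer_iff]
    intro s
    refine ⟨key s, fun hs => ?_⟩
    -- powers of `g` also conjugate `S` into itself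
    have hall : ∀ j : ℕ, ∀ t ∈ (S : Subgroup X), g ^ j * t * (g ^ j)⁻¹ ∈ (S : Subgroup X) := by
      intro j
      induction j with
      | zero => intro t ht; simpa using ht
      | succ j ih =>
        intro t ht
        have := key _ (ih t ht)
        convert this using 1
        rw [pow_succ']; group
    obtain ⟨N, hN0, hN⟩ := isOfFinOrder_iff_pow_eq_one.1 (isOfFinOrder_of_finite g)
    obtain ⟨N', rfl⟩ : ∃ N', N = N' + 1 := ⟨N - 1, by omega⟩
    have := hall N' _ hs
    convert this using 1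
    rw [eq_inv_of_mul_eq_one_left ((pow_succ g N').symm.trans hN)]
    group
  have hxh : x * (h : X) = (h : X) * x := hc _ hhS
  have hxU : ∀ u ∈ (P0 : Subgroup ↥K), x * (u : X) = (u : X) * x := fun u hu => by
    rw [hP0, mem_subgroupOf] at hu
    exact hc _ (hSn _ hu)
  set τ : MulAut ↥K := MulAut.conjNormal x
  have hτh : τ h = h := Subtype.ext (by rw [MulAut.conjNormal_apply, hxh, mul_inv_cancel_right])
  have hτu : ∀ u ∈ (P0 : Subgroup ↥K), τ u = u := fun u hu =>
    Subtype.ext (by rw [MulAut.conjNormal_apply, hxU u hu, mul_inv_cancel_right])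
  -- `τ` fixes every Sylow subgroup of `K`
  have hfixQ : ∀ Q : Sylow p ↥K, (Q : Subgroup ↥K).map τ.toMonoidHom = Q := by
    have hτV : (V : Subgroup ↥K).map τ.toMonoidHom = V := by
      set V' : Sylow p ↥K := V.mapSurjective (f := τ.toMonoidHom) τ.surjective
      have hhV : h ∈ normalizer ((V' : Subgroup ↥K) : Set ↥K) := by
        have := (mem_normalizer_map τ (H := (V : Subgroup ↥K)) (x := h)).2 D.memV
        rwa [hτh] at this
      rcases D.decomp V' with h1 | ⟨u, hu, h1⟩
      · have h2 : (V : Subgroup ↥K) = P0 := by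
          refine Subgroup.map_injective (f := τ.toMonoidHom) τ.injective ?_
          change (V' : Subgroup ↥K) = _
          rw [h1]
          ext k
          exact ⟨fun hk => ⟨k, hk, hτu k hk⟩, by rintro ⟨z, hz, rfl⟩; change τ z ∈ _; rwa [hτu z hz]⟩
        rw [h2]
        ext k
        exact ⟨by rintro ⟨z, hz, rfl⟩; change τ z ∈ _; rwa [hτu z hz], fun hk => ⟨k, hk, hτu k hk⟩⟩
      · change (V' : Subgroup ↥K) = V
        have huh : h * u * h⁻¹ ∈ (P0 : Subgroup ↥K) := (mem_normalizer_iff.1 D.memU u).1 hu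
        have h2 : u⁻¹ * (h * u * h⁻¹) ∈ normalizer ((V : Subgroup ↥K) : Set ↥K) := by
          rw [mem_normalizer_iff_map_conj_eq]
          rw [h1, mem_normalizer_iff_map_conj_eq] at hhV
          have hV := mem_normalizer_iff_map_conj_eq.1 D.memV
          have e : (MulAut.conj (u⁻¹ * (h * u * h⁻¹))).toMonoidHom =
              (MulAut.conj u⁻¹).toMonoidHom.comp (((MulAut.conj h).toMonoidHom.comp
                (MulAut.conj u).toMonoidHom).comp (MulAut.conj h⁻¹).toMonoidHom) := by
            ext y; simp [mul_assoc]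
          have hV' : (V : Subgroup ↥K).map (MulAut.conj h⁻¹).toMonoidHom = V :=
            mem_normalizer_iff_map_conj_eq.1 (inv_mem D.memV)
          change (V : Subgroup ↥K).map (MulAut.conj (u⁻¹ * (h * u * h⁻¹))).toMonoidHom = _
          rw [e, ← map_map, ← map_map, ← map_map, hV']
          erw [hhV]
          rw [map_map]
          convert map_id _ using 2
          ext y; simp [mul_assoc]
        have h3 : u⁻¹ * (h * u * h⁻¹) = 1 := D.trivU _ (mul_mem (inv_mem hu) huh) h2
        rw [inv_mul_eq_one, eq_mul_inv_iff_mul_eq] at h3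
        rw [h1, D.centU u hu h3.symm, map_one]
        exact map_id _
    intro Q
    rcases D.decomp Q with h1 | ⟨u, hu, h1⟩
    · rw [h1]
      ext k
      exact ⟨by rintro ⟨z, hz, rfl⟩; change τ z ∈ _; rwa [hτu z hz], fun hk => ⟨k, hk, hτu k hk⟩⟩
    · rw [h1, map_map]
      conv_rhs => rw [← hτV, map_map]
      congr 1
      ext k
      simp [hτu u hu]
  -- the commutator map into the kernel of the action
  have hcN : ∀ (k : ↥K) (Q : Sylow p ↥K), τ k * k⁻¹ ∈ normalizer ((Q : Subgroup ↥K) : Set ↥K) := by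
    intro k Q
    rw [mem_normalizer_iff_map_conj_eq]
    set Q' : Sylow p ↥K := Q.mapSurjective (f := (MulAut.conj k⁻¹).toMonoidHom) (MulAut.conj k⁻¹).surjective
    have h1 := hfixQ Q'
    change ((Q : Subgroup ↥K).map (MulAut.conj k⁻¹).toMonoidHom).map τ.toMonoidHom =
      (Q : Subgroup ↥K).map (MulAut.conj k⁻¹).toMonoidHom at h1
    rw [map_map, show τ.toMonoidHom.comp (MulAut.conj k⁻¹).toMonoidHom =
      (MulAut.conj (τ k)⁻¹).toMonoidHom.comp τ.toMonoidHom from by ext y; simp,
      ← map_map, hfixQ Q] at h1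
    change (Q : Subgroup ↥K).map (MulAut.conj (τ k * k⁻¹)).toMonoidHom = _
    rw [show (MulAut.conj (τ k * k⁻¹)).toMonoidHom =
      (MulAut.conj (τ k)).toMonoidHom.comp (MulAut.conj k⁻¹).toMonoidHom from by ext y; simp [mul_assoc],
      ← map_map, ← h1, map_map]
    convert map_id _ using 2
    ext y; simp [mul_assoc]
  have hR : Cfsg.pCore p ↥K = ⊥ := by
    have h1 := map_pCore_le (p := p) K
    rw [hO, le_bot_iff, map_eq_bot_iff_of_injective _ K.subtype_injective] at h1
    exact h1
  have hcentral : ∀ k : ↥K, τ k * k⁻¹ ∈ center ↥K := by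
    intro k
    set c := τ k * k⁻¹
    set C0 : Subgroup ↥K := ⨅ Q : Sylow p ↥K, normalizer ((Q : Subgroup ↥K) : Set ↥K)
    set R : Subgroup ↥K := ⨅ Q : Sylow p ↥K, (Q : Subgroup ↥K)
    have hC0n : C0.Normal := ⟨fun a ha g => by
      refine mem_iInf.2 fun Q => ?_
      set Q' : Sylow p ↥K := Q.mapSurjective (f := (MulAut.conj g⁻¹).toMonoidHom) (MulAut.conj g⁻¹).surjective
      have := (mem_normalizer_map (MulAut.conj g)).2 (mem_iInf.1 ha Q')
      have e : (Q' : Subgroup ↥K).map (MulAut.conj g).toMonoidHom = Q := by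
        change ((Q : Subgroup ↥K).map (MulAut.conj g⁻¹).toMonoidHom).map (MulAut.conj g).toMonoidHom = _
        rw [map_map]
        convert map_id _ using 2
        ext y; simp [mul_assoc]
      rw [e, MulAut.conj_apply] at this
      exact this⟩
    have hRn : R.Normal := ⟨fun a ha g => by
      refine mem_iInf.2 fun Q => ?_
      set Q' : Sylow p ↥K := Q.mapSurjective (f := (MulAut.conj g⁻¹).toMonoidHom) (MulAut.conj g⁻¹).surjective
      obtain ⟨z, hz, hza⟩ := mem_iInf.1 ha Q'
      have e : g * a * g⁻¹ = z := by rw [← hza]; simp [mul_assoc]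
      rw [e]
      exact hz⟩
    have hR1 : R = ⊥ := le_bot_iff.1 (hR ▸ Solvable.le_pCore p hRn
      (P0.isPGroup'.to_le (iInf_le _ P0)))
    have hcomm : ∀ (Q : Sylow p ↥K) (u : ↥K), u ∈ (Q : Subgroup ↥K) → u * c = c * u := by
      intro Q u hu
      have hc0 : c ∈ C0 := mem_iInf.2 (hcN k)
      have h1 : u * c * u⁻¹ * c⁻¹ ∈ (Q : Subgroup ↥K) := by
        have := mul_mem hu ((mem_normalizer_iff.1 (hcN k Q) u⁻¹).1 (inv_mem hu))
        simpa [mul_assoc, c] using this
      have h2 : u * c * u⁻¹ * c⁻¹ ∈ C0 := mul_mem (hC0n.conj_mem c hc0 u) (inv_mem hc0)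
      have h3 : u * c * u⁻¹ * c⁻¹ ∈ R := mem_iInf.2 fun Q' => mem_sylow_of_normalizer Q' (mem_iInf.1 h2 Q') (by
        obtain ⟨n, hn⟩ := Q.isPGroup' ⟨_, h1⟩
        exact ⟨n, congrArg Subtype.val hn⟩)
      rw [hR1, mem_bot] at h3
      exact mul_inv_eq_iff_eq_mul.1 (mul_inv_eq_one.1 h3)
    refine mem_center_iff.2 fun g => ?_
    have : g ∈ (P0 : Subgroup ↥K) ⊔ (V : Subgroup ↥K) := D.gen.symm ▸ mem_top g
    have hle : (P0 : Subgroup ↥K) ⊔ (V : Subgroup ↥K) ≤ centralizer ({c} : Set ↥K) :=
      sup_le (fun u hu => mem_centralizer_singleton_iff.2 (hcomm P0 u hu))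
        (fun u hu => mem_centralizer_singleton_iff.2 (hcomm V u hu))
    exact mem_centralizer_singleton_iff.1 (hle this)
  -- hence `x` centralises `K`
  have hfixK : ∀ k : ↥K, τ k = k := by
    let φ : ↥K →* ↥K :=
      { toFun := fun k => τ k * k⁻¹
        map_one' := by simp
        map_mul' := fun a b => by
          rw [map_mul, mul_inv_rev]
          have := mem_center_iff.1 (hcentral b) a⁻¹
          calc τ a * τ b * (b⁻¹ * a⁻¹) = τ a * ((τ b * b⁻¹) * a⁻¹) := by group
            _ = τ a * (a⁻¹ * (τ b * b⁻¹)) := by rw [this]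
            _ = τ a * a⁻¹ * (τ b * b⁻¹) := by group }
    have hker : (P0 : Subgroup ↥K) ⊔ (V : Subgroup ↥K) ≤ φ.ker := by
      refine sup_le (fun u hu => by rw [MonoidHom.mem_ker]; change τ u * u⁻¹ = 1; rw [hτu u hu, mul_inv_cancel])
        fun v hv => ?_
      obtain ⟨n, hn⟩ := V.isPGroup' ⟨v, hv⟩
      have hvn : v ^ p ^ n = 1 := congrArg Subtype.val hn
      have hz : IsPGroup p ↥(zpowers (φ v)) := fun z => ⟨n, Subtype.ext (by
        obtain ⟨i, hi⟩ := mem_zpowers_iff.1 z.2
        rw [SubmonoidClass.coe_pow, ← hi, ← zpow_natCast, ← zpow_mul, mul_comm, zpow_mul, zpow_natCast,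
          ← map_pow, hvn, map_one, one_zpow, OneMemClass.coe_one])⟩
      have hle : zpowers (φ v) ≤ center ↥K := zpowers_le.2 (hcentral v)
      have hn' : (zpowers (φ v)).Normal := ⟨fun a ha g => by
        rw [mem_center_iff.1 (hle ha) g, mul_inv_cancel_right]; exact ha⟩
      have := Solvable.le_pCore p hn' hz (mem_zpowers (φ v))
      rw [hR, mem_bot] at this
      exact this
    intro k
    have := hker (D.gen.symm ▸ mem_top k)
    rw [MonoidHom.mem_ker] at this
    exact mul_inv_eq_one.1 this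
  -- the centralizer of `K` is nilpotent
  set C := centralizer (K : Set X)
  have hxC : x ∈ C := mem_centralizer_iff.2 fun k hk => by
    have := congrArg Subtype.val (hfixK ⟨k, hk⟩)
    rw [MulAut.conjNormal_apply] at this
    exact (mul_inv_eq_iff_eq_mul.1 this).symm
  have hCnil : Group.IsNilpotent ↥C := by
    let f : ↥C →* X ⧸ K := (QuotientGroup.mk' K).comp C.subtype
    obtain ⟨k, hk⟩ := hKp
    have hpq : IsPGroup p (X ⧸ K) := IsPGroup.of_card (n := k) (by rw [← index_eq_card, hk])
    haveI : Group.IsNilpotent f.range := (hpq.to_subgroup f.range).isNilpotent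
    refine Subgroup.isNilpotent_of_ker_le_center f.rangeRestrict ?_
    intro c hc'
    rw [MonoidHom.ker_rangeRestrict, MonoidHom.mem_ker] at hc'
    have hcK : (c : X) ∈ K := (QuotientGroup.eq_one_iff _).1 hc'
    exact mem_center_iff.2 fun g => Subtype.ext (mem_centralizer_iff.1 g.2 _ hcK).symm
  obtain ⟨n, hn⟩ := hpS x hx
  obtain ⟨PC⟩ : Nonempty (Sylow p ↥C) := inferInstance
  haveI hPC : (PC : Subgroup ↥C).Normal := by
    have := (Group.isNilpotent_of_finite_tfae (G := ↥C)).out 0 3
    exact this.1 hCnil p hp PC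
  have hxP : (⟨x, hxC⟩ : ↥C) ∈ (PC : Subgroup ↥C) := mem_sylow_of_normalizer PC
    (by rw [normalizer_eq_top]; exact mem_top _) ⟨n, Subtype.ext (by simpa using hn)⟩
  have h1 := map_pCore_le (p := p) C
    (mem_map_of_mem C.subtype (Solvable.le_pCore p hPC PC.isPGroup' hxP))
  rw [hO, mem_bot] at h1
  exact h1

end Main

end CfsgLib.RankOneTorus
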