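import Mathlib
import Cfsg.Agent.RankOneTorus.Basic

/-!
Torus patterns from a Bruhat decomposition with two double cosets; central quotients of prime-to-`p` order.
-/

set_option autoImplicit false
set_option linter.style.haveILetI false
set_option linter.unusedSectionVars false

namespace CfsgLib.RankOneTorus

open Subgroup

variable {K : Type*} [Group K] [Finite K] {p : ℕ} [hp : Fact p.Prime]

/-- Two double cosets `B ∪ U w B` give the pattern. -/
theorem hasPattern_of_bruhat {C : Type*} [CommGroup C] [IsCyclic C] [Finite C] (hC : ¬ p ∣ Nat.card C)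
    (U B : Subgroup K) (w h : K) (hU : IsPGroup p ↥U) (hU1 : U ≠ ⊥) (hUB : U ≤ B)
    (hBU : B ≤ normalizer (U : Set K))
    (ψ : ↥B →* C) (hψ : ∀ b : ↥B, ψ b = 1 → (b : K) ∈ U)
    (hbru : ∀ g : K, g ∈ B ∨ ∃ u ∈ U, ∃ b ∈ B, g = u * w * b)
    (htriv : ∀ u ∈ U, w⁻¹ * u * w ∈ B → u = 1)
    (hhB : h ∈ B) (hhw : w⁻¹ * h * w ∈ B) (hhp : ψ ⟨h, hhB⟩ ^ (p - 1) = 1)
    (hcent : ∀ u ∈ U, h * u = u * h → u = 1)
    (hgen : U ⊔ U.map (MulAut.conj w).toMonoidHom = ⊤) : HasPattern p K := by
  have hψU : ∀ b : ↥B, (b : K) ∈ U → ψ b = 1 := by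
    intro b hb
    obtain ⟨k, hk⟩ := hU ⟨b, hb⟩
    have h1 : ψ b ^ p ^ k = 1 := by
      rw [← map_pow]
      have : b ^ p ^ k = 1 := Subtype.ext (by simpa using congrArg Subtype.val hk)
      rw [this, map_one]
    exact (pow_eq_one_iff_of_coprime ((hp.out.coprime_iff_not_dvd.2 hC).pow_left k)).1 ⟨h1, pow_card_eq_one'⟩
  have hwB : w ∉ B := fun hw => hU1 ((eq_bot_iff_forall _).2 fun u hu =>
    htriv u hu (mul_mem (mul_mem (inv_mem hw) (hUB hu)) hw))
  have huniq : ∀ u ∈ U, ∀ u' ∈ U, (u * w)⁻¹ * (u' * w) ∈ B → u = u' := by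
    intro u hu u' hu' hb
    have := htriv (u⁻¹ * u') (mul_mem (inv_mem hu) hu') (by
      convert hb using 1
      group)
    exact inv_mul_eq_one.1 this
  -- the index of `B` is `|U| + 1`
  have hBidx : B.index = Nat.card ↥U + 1 := by
    classical
    haveI := Fintype.ofFinite ↥U
    let f : Option ↥U → K ⧸ B := fun o => o.elim (QuotientGroup.mk 1) fun u => QuotientGroup.mk ((u : K) * w)
    have hf : Function.Bijective f := by
      refine ⟨?_, ?_⟩
      · have hne : ∀ u : ↥U, (QuotientGroup.mk (1 : K) : K ⧸ B) ≠ QuotientGroup.mk ((u : K) * w) := by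
          intro u hu
          rw [QuotientGroup.eq, inv_one, one_mul] at hu
          exact hwB (by simpa [mul_assoc] using mul_mem (inv_mem (hUB u.2)) hu)
        rintro (_ | a) (_ | b) hab
        · rfl
        · exact absurd hab (hne b)
        · exact absurd hab.symm (hne a)
        · exact congrArg some (Subtype.ext (huniq _ a.2 _ b.2 (QuotientGroup.eq.1 hab)))
      · intro q
        obtain ⟨g, rfl⟩ := QuotientGroup.mk_surjective q
        rcases hbru g with hg | ⟨u, hu, b, hb, rfl⟩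
        · exact ⟨none, QuotientGroup.eq.2 (by simpa using hg)⟩
        · exact ⟨some ⟨u, hu⟩, QuotientGroup.eq.2 (by simpa [mul_assoc] using hb)⟩
    rw [index_eq_card, ← Nat.card_eq_of_bijective f hf, Finite.card_option]
  have hpU : p ∣ Nat.card ↥U := by
    obtain ⟨k, hk⟩ := (IsPGroup.iff_card (p := p)).1 hU
    rcases k with _ | k
    · exact absurd (eq_bot_of_card_eq _ (by simpa using hk)) hU1
    · exact hk ▸ dvd_pow_self p (by omega)
  have hidx : ¬ p ∣ U.index := by
    rw [← relIndex_mul_index hUB, hp.out.dvd_mul, not_or]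
    refine ⟨fun hd => hC ?_, fun hd => ?_⟩
    · have hinj : U.relIndex B ∣ Nat.card C := by
        have hker : ψ.ker = U.subgroupOf B := Subgroup.ext fun b => ⟨hψ b, hψU b⟩
        rw [relIndex, ← hker, index_ker]
        exact card_subgroup_dvd_card _
      exact hd.trans hinj
    · rw [hBidx] at hd
      exact hp.out.one_lt.ne' (Nat.dvd_one.1 ((Nat.dvd_add_right hpU).1 hd))
  set P : Sylow p K := hU.toSylow hidx
  have hP : (P : Subgroup K) = U := rfl
  set V : Sylow p K := P.mapSurjective (f := (MulAut.conj w).toMonoidHom) (MulAut.conj w).surjective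
  have hNU : normalizer (U : Set K) = B := by
    refine le_antisymm (fun g hg => ?_) hBU
    rcases hbru g with h1 | ⟨u, hu, b, hb, rfl⟩
    · exact h1
    · exfalso
      have hw : w ∈ normalizer (U : Set K) := by
        have := mul_mem (mul_mem (inv_mem (hBU (hUB hu))) hg) (inv_mem (hBU hb))
        simpa [mul_assoc] using this
      refine hU1 ((eq_bot_iff_forall _).2 fun x hx => htriv x hx (hUB ?_))
      have := (mem_normalizer_iff.1 (inv_mem hw) x).1 hx
      rwa [inv_inv] at this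
  refine ⟨P, V, h, ⟨hP ▸ hBU hhB, ?_, ?_, ?_, ?_, ?_, ?_, ?_⟩⟩
  · change h ∈ normalizer ((U.map (MulAut.conj w).toMonoidHom : Subgroup K) : Set K)
    rw [show h = MulAut.conj w (w⁻¹ * h * w) from by simp [mul_assoc]]
    exact (mem_normalizer_map _).2 (hBU hhw)
  · change IsCyclic (↥(normalizer (U : Set K)) ⧸ U.subgroupOf (normalizer (U : Set K)))
    set ψ' : ↥(normalizer (U : Set K)) →* C := ψ.comp (Subgroup.inclusion hNU.le)
    have hker : ψ'.ker = U.subgroupOf (normalizer (U : Set K)) := Subgroup.ext fun b =>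
      ⟨hψ (Subgroup.inclusion hNU.le b), hψU (Subgroup.inclusion hNU.le b)⟩
    exact isCyclic_of_injective ((QuotientGroup.kerLift ψ').comp
        (QuotientGroup.quotientMulEquivOfEq hker.symm).toMonoidHom)
      ((QuotientGroup.kerLift_injective ψ').comp (QuotientGroup.quotientMulEquivOfEq hker.symm).injective)
  · exact hψ (⟨h, hhB⟩ ^ (p - 1)) (by rw [map_pow, hhp])
  · intro Q
    obtain ⟨g, rfl⟩ := MulAction.exists_smul_eq K P Q
    change (U.map (MulAut.conj g).toMonoidHom = U) ∨ ∃ u ∈ U, U.map (MulAut.conj g).toMonoidHom =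
      (U.map (MulAut.conj w).toMonoidHom).map (MulAut.conj u).toMonoidHom
    rcases hbru g with h1 | ⟨u, hu, b, hb, rfl⟩
    · exact Or.inl (mem_normalizer_iff_map_conj_eq.1 (hBU h1))
    · refine Or.inr ⟨u, hu, ?_⟩
      have e : (MulAut.conj (u * w * b)).toMonoidHom = (MulAut.conj u).toMonoidHom.comp
          ((MulAut.conj w).toMonoidHom.comp (MulAut.conj b).toMonoidHom) := by
        ext y; simp [mul_assoc]
      rw [e, ← map_map, ← map_map]
      congr 2
      exact mem_normalizer_iff_map_conj_eq.1 (hBU hb)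
  · intro u hu hn
    refine htriv u hu (hNU.le ((mem_normalizer_map (MulAut.conj w)).1 ?_))
    have e : MulAut.conj w (w⁻¹ * u * w) = u := by simp [mul_assoc]
    rw [e]
    exact hn
  · exact fun u hu => hcent u hu
  · exact hgen

/-- Quotients by central subgroups of order prime to `p`. -/
theorem HasPattern.quotient (hK : HasPattern p K) (Z : Subgroup K) [Z.Normal] (hZc : Z ≤ center K)
    (hZ : ¬ p ∣ Nat.card ↥Z) : HasPattern p (K ⧸ Z) := by
  obtain ⟨U, V, h, D⟩ := hK
  set π := QuotientGroup.mk' Z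
  have hπ : Function.Surjective π := QuotientGroup.mk'_surjective Z
  -- `P Z` has a unique Sylow subgroup
  have hlift : ∀ (P : Sylow p K) (x : K), π x ∈ (P : Subgroup K).map π → (∃ k : ℕ, x ^ p ^ k = 1) →
      x ∈ (P : Subgroup K) := by
    intro P x hx ⟨k, hk⟩
    obtain ⟨y, hy, hxy⟩ := hx
    have hz : y⁻¹ * x ∈ Z := (QuotientGroup.eq (s := Z)).1 hxy
    obtain ⟨l, hl⟩ := P.isPGroup' ⟨y, hy⟩
    have hyl : y ^ p ^ l = 1 := congrArg Subtype.val hl
    have hcomm : Commute y (y⁻¹ * x) := Subgroup.mem_center_iff.1 (hZc hz) y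
    have hz1 : (y⁻¹ * x) ^ p ^ (k + l) = 1 := by
      have e : y ^ p ^ (k + l) * (y⁻¹ * x) ^ p ^ (k + l) = x ^ p ^ (k + l) := by
        rw [← hcomm.mul_pow, mul_inv_cancel_left]
      rw [show x ^ p ^ (k + l) = 1 by rw [pow_add, pow_mul, hk, one_pow],
        show y ^ p ^ (k + l) = 1 by rw [Nat.add_comm, pow_add, pow_mul, hyl, one_pow], one_mul] at e
      exact e
    have : (⟨_, hz⟩ : ↥Z) = 1 := (pow_eq_one_iff_of_coprime ((hp.out.coprime_iff_not_dvd.2 hZ).pow_left (k + l))).1
      ⟨Subtype.ext (by simpa using hz1), pow_card_eq_one'⟩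
    have h2 : y⁻¹ * x = 1 := congrArg Subtype.val this
    rw [inv_mul_eq_one] at h2
    exact h2 ▸ hy
  have hnorm : ∀ (P : Sylow p K) (g : K), π g ∈ normalizer (((P : Subgroup K).map π : Subgroup (K ⧸ Z)) : Set (K ⧸ Z)) →
      g ∈ normalizer ((P : Subgroup K) : Set K) := by
    intro P g hg
    rw [mem_normalizer_iff]
    intro x
    constructor
    · intro hx
      obtain ⟨k, hk⟩ := P.isPGroup' ⟨x, hx⟩
      refine hlift P _ ?_ ⟨k, ?_⟩
      · rw [map_mul, map_mul, map_inv]
        exact (mem_normalizer_iff.1 hg _).1 ⟨x, hx, rfl⟩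
      · rw [conj_pow, show x ^ p ^ k = 1 from congrArg Subtype.val hk, mul_one, mul_inv_cancel]
    · intro hx
      obtain ⟨k, hk⟩ := P.isPGroup' ⟨_, hx⟩
      refine hlift P _ ?_ ⟨k, ?_⟩
      · refine (mem_normalizer_iff.1 hg _).2 ?_
        rw [← map_inv, ← map_mul, ← map_mul]
        exact ⟨_, hx, rfl⟩
      · have h1 : g * x ^ p ^ k * g⁻¹ = 1 := by
          rw [← conj_pow]; exact congrArg Subtype.val hk
        exact mul_left_cancel (a := g) (by rw [mul_one]; exact mul_inv_eq_one.1 h1)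
  have hnorm' : ∀ (P : Sylow p K) (g : K), g ∈ normalizer ((P : Subgroup K) : Set K) →
      π g ∈ normalizer (((P : Subgroup K).map π : Subgroup (K ⧸ Z)) : Set (K ⧸ Z)) :=
    fun P g hg => Subgroup.le_normalizer_map (H := (P : Subgroup K)) π ⟨g, hg, rfl⟩
  refine ⟨U.mapSurjective hπ, V.mapSurjective hπ, π h, ⟨hnorm' U h D.memU, hnorm' V h D.memV, ?_, ?_, ?_, ?_, ?_, ?_⟩⟩
  · haveI := D.cyc
    set NU := normalizer ((U : Subgroup K) : Set K)
    set NL := normalizer (((U : Subgroup K).map π : Subgroup (K ⧸ Z)) : Set (K ⧸ Z))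
    let f : ↥NU →* ↥NL := (π.comp NU.subtype).codRestrict NL fun x => hnorm' U x x.2
    refine isCyclic_of_surjective (QuotientGroup.map ((U : Subgroup K).subgroupOf NU)
      (((U : Subgroup K).map π).subgroupOf NL) f fun x hx => ⟨_, mem_subgroupOf.1 hx, rfl⟩) ?_
    intro y
    obtain ⟨⟨z, hz⟩, rfl⟩ := QuotientGroup.mk_surjective y
    obtain ⟨x, rfl⟩ := hπ z
    exact ⟨QuotientGroup.mk (⟨x, hnorm U x hz⟩ : ↥NU), rfl⟩
  · rw [← map_pow]; exact ⟨_, D.pow, rfl⟩
  · intro Q
    obtain ⟨g, hg⟩ := MulAction.exists_smul_eq (K ⧸ Z) (U.mapSurjective hπ) Q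
    obtain ⟨x, rfl⟩ := hπ g
    set Q' : Sylow p K := x • U
    have hQ : (Q : Subgroup (K ⧸ Z)) = (Q' : Subgroup K).map π := by
      rw [← hg]
      change ((U : Subgroup K).map π).map (MulAut.conj (π x)).toMonoidHom =
        ((U : Subgroup K).map (MulAut.conj x).toMonoidHom).map π
      rw [map_map, map_map]
      congr 1
    rcases D.decomp Q' with h1 | ⟨u, hu, h1⟩
    · exact Or.inl (by rw [hQ, h1]; rfl)
    · refine Or.inr ⟨π u, ⟨u, hu, rfl⟩, ?_⟩
      rw [hQ, h1]
      change _ = ((V : Subgroup K).map π).map (MulAut.conj (π u)).toMonoidHom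
      rw [map_map, map_map]
      congr 1
  · rintro x hx hn
    obtain ⟨u, hu, rfl⟩ := hx
    rw [D.trivU u hu (hnorm V u hn), map_one]
  · rintro x hx hc
    obtain ⟨u, hu, rfl⟩ := hx
    have h1 : π (h * u * h⁻¹) = π u := by rw [map_mul, map_mul, hc, map_inv, mul_inv_cancel_right]
    have h2 : h * u * h⁻¹ ∈ (U : Subgroup K) := (mem_normalizer_iff.1 D.memU u).1 hu
    have hz : u⁻¹ * (h * u * h⁻¹) ∈ Z := (QuotientGroup.eq (s := Z)).1 h1.symm
    obtain ⟨k, hk⟩ := U.isPGroup' ⟨_, mul_mem (inv_mem hu) h2⟩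
    have : (⟨_, hz⟩ : ↥Z) = 1 := (pow_eq_one_iff_of_coprime ((hp.out.coprime_iff_not_dvd.2 hZ).pow_left k)).1
      ⟨Subtype.ext (by simpa using congrArg Subtype.val hk), pow_card_eq_one'⟩
    have h3 : u⁻¹ * (h * u * h⁻¹) = 1 := congrArg Subtype.val this
    rw [inv_mul_eq_one, eq_mul_inv_iff_mul_eq] at h3
    rw [D.centU u hu h3.symm, map_one]
  · change (U : Subgroup K).map π ⊔ (V : Subgroup K).map π = ⊤
    rw [← Subgroup.map_sup, D.gen, map_top_of_surjective π hπ]

end CfsgLib.RankOneTorus
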