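import Cfsg.Agent.RankOneTorus.Bruhat
import Cfsg.Agent.Classical.SylowTwoDim

/-!
The torus pattern of `SL_2` and `PSL_2`.
-/

set_option autoImplicit false
set_option linter.style.haveILetI false
set_option linter.unusedSectionVars false

namespace CfsgLib.RankOneTorus

open Matrix Subgroup CfsgLib.ZJ
open CfsgLib.Linear.SylowDim (us upper_eq_bor bor_one_mem card_us sup_conj_eq_top)

theorem mem_us_iff {F : Type*} [Field F] [Fintype F] {g : SL2 F} : g ∈ us F ↔ ∃ x, g = upper x := by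
  constructor
  · intro hg
    obtain ⟨x, hx⟩ := CfsgLib.Linear.SylowDim.mem_ut.1 hg
    have hm : CfsgLib.SL2C.mt g = CfsgLib.GL2C.gm (CfsgLib.GL2C.tri 1 1 x) := congrArg CfsgLib.GL2C.gm hx
    exact ⟨x, by rw [upper_eq_bor]; exact CfsgLib.SL2C.mt_injective (by
      rw [CfsgLib.SL2C.mt_bor, hm, CfsgLib.GL2C.gm_tri]; simp)⟩
  · rintro ⟨x, rfl⟩
    rw [upper_eq_bor]; exact bor_one_mem x

theorem exists_prime_unit (p : ℕ) [Fact p.Prime] (hp : 5 ≤ p) (F : Type*) [Field F] [CharP F p] :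
    ∃ a : Fˣ, a ^ (p - 1) = 1 ∧ (a : F) * a ≠ 1 ∧ ∀ j : ℕ, (a : F) ^ p ^ j = a := by
  have hpr : p.Prime := Fact.out
  have h2 : ((2 : ℕ) : F) ≠ 0 := fun h => by
    have := Nat.le_of_dvd (by norm_num) ((CharP.cast_eq_zero_iff F p 2).1 h); omega
  have hz : (2 : ZMod p) ≠ 0 := fun h => by
    have h' : ((2 : ℕ) : ZMod p) = 0 := by exact_mod_cast h
    have := Nat.le_of_dvd (by norm_num) ((ZMod.natCast_eq_zero_iff 2 p).1 h'); omega
  set i := ZMod.castHom (dvd_refl p) F
  refine ⟨Units.mk0 ((2 : ℕ) : F) h2, Units.ext ?_, ?_, ?_⟩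
  · have h1 : i ((2 : ZMod p) ^ (p - 1)) = i 1 := congrArg i (ZMod.pow_card_sub_one_eq_one hz)
    rw [map_pow, map_one, map_ofNat] at h1
    simpa using h1
  · intro h
    have h3 : ((3 : ℕ) : F) = 0 := by
      push_cast
      simp only [Units.val_mk0, Nat.cast_ofNat] at h
      linear_combination h
    have := Nat.le_of_dvd (by norm_num) ((CharP.cast_eq_zero_iff F p 3).1 h3); omega
  · intro j
    have h1 : i ((2 : ZMod p) ^ p ^ j) = i 2 := congrArg i (ZMod.pow_card_pow 2)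
    rw [map_pow, map_ofNat] at h1
    simpa using h1

variable {p : ℕ} [hp : Fact p.Prime]

theorem hasPattern_sl_two (hp5 : 5 ≤ p) (F : Type*) [Field F] [Fintype F] [CharP F p] :
    HasPattern p (SL2 F) := by
  classical
  obtain ⟨a, ha1, ha2, -⟩ := exists_prime_unit p hp5 F
  obtain ⟨n, -, hn, hq1, -⟩ := CfsgLib.Linear.SylowDim.char_facts (F := F) p
  set B : Subgroup (SL2 F) :=
    { carrier := {g | g 1 0 = 0}
      one_mem' := by simp
      mul_mem' := by
        intro g h hg hh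
        simp only [Set.mem_ofPred_eq] at hg hh ⊢
        rw [sl2_mul, hg, hh]; ring
      inv_mem' := by
        intro g hg
        simp only [Set.mem_ofPred_eq] at hg ⊢
        rw [(sl2_inv g).2.2.1, hg, neg_zero] } with hB
  set w : SL2 F := ⟨!![0, 1; -1, 0], by simp [Matrix.det_fin_two]⟩
  have hwi : w⁻¹ 0 0 = 0 ∧ w⁻¹ 0 1 = -1 ∧ w⁻¹ 1 0 = 1 ∧ w⁻¹ 1 1 = 0 := by
    obtain ⟨h1, h2, h3, h4⟩ := sl2_inv w
    refine ⟨?_, ?_, ?_, ?_⟩ <;> simp_all [w]
  set h : SL2 F := ⟨!![(a : F), 0; 0, ((a⁻¹ : Fˣ) : F)], by simp [Matrix.det_fin_two]⟩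
  have hne : ∀ g : ↥B, ((g : SL2 F) 0 0) ≠ 0 := by
    intro g e
    have := sl2_det (g : SL2 F)
    rw [e, show (g : SL2 F) 1 0 = 0 from g.2] at this
    simp at this
  let ψ : ↥B →* Fˣ :=
    { toFun := fun g => Units.mk0 _ (hne g)
      map_one' := Units.ext (by simp)
      map_mul' := fun x y => Units.ext (by
        simp only [Units.val_mk0, Units.val_mul, Subgroup.coe_mul]
        rw [sl2_mul, show (y : SL2 F) 1 0 = 0 from y.2]; ring) }
  refine hasPattern_of_bruhat (C := Fˣ) (by rwa [Nat.card_units]) (us F) B w h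
    (IsPGroup.of_card (card_us.trans hn)) ?_ ?_ ?_ ψ ?_ ?_ ?_ ?_ ?_ ?_ ?_ ?_
  · intro e
    have h1 : upper (1 : F) ∈ us F := mem_us_iff.2 ⟨1, rfl⟩
    rw [e, mem_bot] at h1
    simpa using congrArg (fun g : SL2 F => g 0 1) h1
  · intro g hg
    obtain ⟨x, rfl⟩ := mem_us_iff.1 hg
    exact upper_10 x
  · intro g hg
    have key : ∀ g ∈ B, ∀ u ∈ us F, g * u * g⁻¹ ∈ us F := by
      intro g hg u hu
      obtain ⟨x, rfl⟩ := mem_us_iff.1 hu
      refine mem_us_iff.2 ⟨g 0 0 * g 0 0 * x, ?_⟩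
      have hd := sl2_det g
      rw [show g 1 0 = 0 from hg, mul_zero, sub_zero] at hd
      rw [mul_inv_eq_iff_eq_mul]
      apply sl2_ext <;> simp only [sl2_mul, upper_00, upper_01, upper_10, upper_11, show g 1 0 = 0 from hg]
      · ring
      · linear_combination -(g 0 0 * x) * hd
      · ring
      · ring
    refine mem_normalizer_iff.2 fun u => ⟨key g hg u, fun hu => ?_⟩
    simpa [mul_assoc] using key _ (inv_mem hg) _ hu
  · intro g hg
    have h0 : ((g : SL2 F) 0 0) = 1 := congrArg Units.val hg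
    refine mem_us_iff.2 ⟨(g : SL2 F) 0 1, ?_⟩
    have hd := sl2_det (g : SL2 F)
    rw [h0, show (g : SL2 F) 1 0 = 0 from g.2] at hd
    apply sl2_ext <;> simp only [upper_00, upper_01, upper_10, upper_11]
    · exact h0
    · exact g.2
    · linear_combination hd
  · intro g
    by_cases hg : g 1 0 = 0
    · exact Or.inl hg
    refine Or.inr ⟨upper (g 0 0 / g 1 0), mem_us_iff.2 ⟨_, rfl⟩, (upper (g 0 0 / g 1 0) * w)⁻¹ * g, ?_, by group⟩
    show ((upper (g 0 0 / g 1 0) * w)⁻¹ * g : SL2 F) 1 0 = 0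
    rw [_root_.mul_inv_rev, upper_inv]
    simp only [sl2_mul, upper_00, upper_01, upper_10, upper_11, hwi]
    field_simp
    ring
  · intro u hu hb
    obtain ⟨x, rfl⟩ := mem_us_iff.1 hu
    have hb' : (w⁻¹ * upper x * w : SL2 F) 1 0 = 0 := hb
    simp only [sl2_mul, upper_00, upper_01, upper_10, upper_11, hwi] at hb'
    simp [w] at hb'
    subst hb'
    exact upper_zero
  · show h 1 0 = 0
    simp [h]
  · show (w⁻¹ * h * w : SL2 F) 1 0 = 0
    simp only [sl2_mul, hwi]
    simp [w, h]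
  · refine Units.ext ?_
    have h00 : h 0 0 = (a : F) := rfl
    simp only [ψ, MonoidHom.coe_mk, OneHom.coe_mk, Units.val_pow_eq_pow_val, Units.val_mk0, h00, Units.val_one]
    rw [← Units.val_pow_eq_pow_val, ha1, Units.val_one]
  · intro u hu hc
    obtain ⟨x, rfl⟩ := mem_us_iff.1 hu
    have e := congrArg (fun g : SL2 F => g 0 1) hc
    simp only [sl2_mul, upper_00, upper_01, upper_11] at e
    simp [h] at e
    have hx : x * ((a : F) * a - 1) = 0 := by
      field_simp at e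
      linear_combination e
    rw [(mul_eq_zero.1 hx).resolve_right (sub_ne_zero.2 ha2), upper_zero]
  · exact sup_conj_eq_top (k := w) (by simp [w, CfsgLib.SL2C.mt])

end CfsgLib.RankOneTorus
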