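import Cfsg.Agent.RankOneTorus.SLTwo
import Cfsg.Agent.AutPSU.Main
import Cfsg.Agent.Unitary.Generated

/-!
The torus pattern of `SU_3`.
-/

set_option autoImplicit false
set_option linter.style.haveILetI false
set_option linter.unusedSectionVars false

namespace CfsgLib.RankOneTorus

open Matrix CfsgLib.Unitary CfsgLib.AutPSU CfsgLib.Forms

variable {F : Type*} [Field F] [Finite F] {q : ℕ} (hF : Nat.card F = q ^ 2)

local notation "hf" => Cfsg.hermForm _ _
local notation "SU3" => Cfsg.SU 3 F q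

/-- The stabiliser of a point. -/
def pointStab (F : Type*) [Field F] [Finite F] (q : ℕ) (e : Fin 3 → F) : Subgroup (Cfsg.SU 3 F q) where
  carrier := {A | ∃ μ : F, suMat A *ᵥ e = μ • e}
  one_mem' := ⟨1, by rw [suMat_one, Matrix.one_mulVec, one_smul]⟩
  mul_mem' := by
    rintro A B ⟨μ, hA⟩ ⟨ν, hB⟩
    exact ⟨ν * μ, by rw [suMat_mul, ← Matrix.mulVec_mulVec, hB, Matrix.mulVec_smul, hA, smul_smul]⟩
  inv_mem' := by
    rintro A ⟨μ, hA⟩
    have h1 := su_inv_mulVec A e
    rw [hA, Matrix.mulVec_smul] at h1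
    rcases eq_or_ne μ 0 with rfl | hμ
    · exact ⟨0, by
        rw [zero_smul] at h1
        rw [zero_smul, ← h1, Matrix.mulVec_zero]⟩
    · exact ⟨μ⁻¹, by
        conv_rhs => rw [← h1]
        rw [smul_smul, inv_mul_cancel₀ hμ, one_smul]⟩

include hF

theorem suMat_mem_radical_fix {e : Fin 3 → F} (he : hf q e e = 0) {A : SU3} (hA : A ∈ radical hF e he) :
    suMat A *ᵥ e = e := by
  obtain ⟨a, s, ha, hA⟩ := hA
  rw [hA, eichMat_mulVec he, he, hf_swap_zero hF ha]
  simp

theorem eq_one_of_fix {e f : Fin 3 → F} (H : Hyp q e f) {A : SU3} (he : suMat A *ᵥ e = e)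
    (hf' : suMat A *ᵥ f = f) : A = 1 := by
  obtain ⟨d, hd, b, Fr⟩ := exists_frame hF H
  obtain rfl : d = 1 := by omega
  set lam := hf q (suMat A *ᵥ b 0) (b 0)
  have hW : InW q e f (suMat A *ᵥ b 0) := by
    refine ⟨?_, ?_⟩
    · show hf q (suMat A *ᵥ b 0) e = 0
      rw [← he, su_preserves]; exact (Fr.inW 0).1
    · show hf q (suMat A *ᵥ b 0) f = 0
      rw [← hf', su_preserves]; exact (Fr.inW 0).2
  have hb : suMat A *ᵥ b 0 = lam • b 0 := by
    have := Fr.expand_W hW
    rwa [Fin.sum_univ_one] at this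
  have hM : suMat A = 1 + (lam - 1) • Matrix.vecMulVec (b 0) (barVec q (b 0)) := by
    refine Matrix.ext_iff_smul.mpr fun x => ?_
    have hx : x = hf q x f • e + hf q x e • f + hf q x (b 0) • b 0 := by
      have := Fr.expand x
      rwa [Fin.sum_univ_one] at this
    rw [Matrix.smul_eq_mulVec, Matrix.smul_eq_mulVec, Matrix.add_mulVec, Matrix.one_mulVec, Matrix.smul_mulVec,
      Matrix.vecMulVec_mulVec, op_smul_eq_smul, barVec_dot]
    conv_lhs => rw [hx, Matrix.mulVec_add, Matrix.mulVec_add, Matrix.mulVec_smul, Matrix.mulVec_smul,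
      Matrix.mulVec_smul, he, hf', hb]
    conv_rhs => arg 1; rw [hx]
    funext i
    simp only [Pi.add_apply, Pi.smul_apply, smul_eq_mul]
    ring
  have hdet : (suMat A).det = 1 := A.1.2
  rw [hM, AutPSU.det_one_add_smul, Fr.on, if_pos rfl, mul_one, add_sub_cancel] at hdet
  apply suMat_inj
  rw [hM, hdet, sub_self, zero_smul, add_zero, suMat_one]

theorem hasPattern_su_three {p : ℕ} [Fact p.Prime] [CharP F p] (hp5 : 5 ≤ p) {j : ℕ} (hj : 1 ≤ j)
    (hq : q = p ^ j) : HasPattern p SU3 := by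
  classical
  obtain ⟨a, ha1, ha2, haq⟩ := exists_prime_unit p hp5 F
  obtain ⟨e, he0, hee⟩ := exists_isotropic hF (n := 3) (by norm_num)
  obtain ⟨f, H⟩ := exists_hyp hF he0 hee
  obtain ⟨c, hc0, hc⟩ := exists_skew hF
  have hfe : hf q f e = 1 := H.fe hF
  have hd : -c⁻¹ + (-c⁻¹) ^ q = 0 := by
    have h1 : c ^ q = -c := eq_neg_of_add_eq_zero_right hc
    rw [← frobQ_apply hF (-c⁻¹), map_neg, map_inv₀, frobQ_apply, h1, inv_neg, neg_neg, neg_add_cancel]
  set T := suTv 3 e c H.ee hc hF
  set T' := suTv 3 f (-c⁻¹) H.ff hd hF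
  set w : SU3 := T * T' * T with hw
  have hT : ∀ x, suMat T *ᵥ x = x + (c * hf q x e) • e := fun x => utv_mulVec e c x
  have hT' : ∀ x, suMat T' *ᵥ x = x + (-c⁻¹ * hf q x f) • f := fun x => utv_mulVec f (-c⁻¹) x
  have hwe : suMat w *ᵥ e = (-c⁻¹) • f := by
    rw [hw, suMat_mul, suMat_mul, ← Matrix.mulVec_mulVec, ← Matrix.mulVec_mulVec, hT e, H.ee, mul_zero,
      zero_smul, add_zero, hT' e, H.ef, mul_one, Matrix.mulVec_add, Matrix.mulVec_smul, hT e, hT f, H.ee, hfe,
      mul_zero, zero_smul, add_zero, mul_one]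
    funext i
    simp only [Pi.add_apply, Pi.smul_apply, smul_eq_mul]
    field_simp
    ring
  have hwf : suMat w *ᵥ f = c • e := by
    rw [hw, suMat_mul, suMat_mul, ← Matrix.mulVec_mulVec, ← Matrix.mulVec_mulVec, hT f, hfe, mul_one,
      Matrix.mulVec_add, Matrix.mulVec_smul, hT' e, hT' f, H.ef, H.ff, mul_zero, zero_smul, add_zero, mul_one,
      smul_add, smul_smul, Matrix.mulVec_add, Matrix.mulVec_add, Matrix.mulVec_smul, Matrix.mulVec_smul,
      hT e, hT f, H.ee, hfe, mul_zero, zero_smul, add_zero, mul_one]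
    funext i
    simp only [Pi.add_apply, Pi.smul_apply, smul_eq_mul]
    field_simp
    ring
  have hwie : suMat w⁻¹ *ᵥ e = c⁻¹ • f := by
    have h1 := su_inv_mulVec w f
    rw [hwf, Matrix.mulVec_smul] at h1
    conv_rhs => rw [← h1, smul_smul, inv_mul_cancel₀ hc0, one_smul]
  have hwif : suMat w⁻¹ *ᵥ f = (-c) • e := by
    have h1 := su_inv_mulVec w e
    rw [hwe, Matrix.mulVec_smul] at h1
    conv_rhs => rw [← h1, smul_smul, neg_mul_neg, mul_inv_cancel₀ hc0, one_smul]
  have haq' : (a : F) ^ q = a := hq ▸ haq j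
  have hR : FixPair q e f (1 : Matrix (Fin 3) (Fin 3) F) := FixPair.one e f
  set h : SU3 := levi hF H a.ne_zero hR (by rw [Matrix.det_one, mul_one, haq'])
  have hhe : suMat h *ᵥ e = (a : F) • e := levi_e hF H a.ne_zero hR _
  have hhf : suMat h *ᵥ f = ((a : F))⁻¹ • f := by rw [levi_f hF H a.ne_zero hR _, haq']
  have hhW : ∀ v, InW q e f v → suMat h *ᵥ v = v := fun v hv => by
    rw [levi_W hF H a.ne_zero hR _ hv, Matrix.one_mulVec]
  have hne : ∀ g : SU3, ∀ μ : F, suMat g *ᵥ e = μ • e → μ ≠ 0 := by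
    intro g μ hg h0
    have h1 := su_inv_mulVec g e
    rw [hg, h0, zero_smul, Matrix.mulVec_zero] at h1
    exact he0 h1.symm
  let ψ : ↥(pointStab F q e) →* Fˣ :=
    { toFun := fun g => Units.mk0 g.2.choose (hne g _ g.2.choose_spec)
      map_one' := Units.ext (smul_left_injective F he0 (by
        show _ • e = (1 : F) • e
        rw [Units.val_mk0, ← (1 : ↥(pointStab F q e)).2.choose_spec, OneMemClass.coe_one, suMat_one,
          Matrix.one_mulVec, one_smul]))
      map_mul' := fun g g' => Units.ext (smul_left_injective F he0 (by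
        show (g * g').2.choose • e = (g.2.choose * g'.2.choose) • e
        refine (g * g').2.choose_spec.symm.trans ?_
        have h1 : suMat ((g : SU3) * (g' : SU3)) *ᵥ e = suMat (g : SU3) *ᵥ (suMat (g' : SU3) *ᵥ e) := by
          rw [suMat_mul, ← Matrix.mulVec_mulVec]
        refine h1.trans ((congrArg (fun v => suMat (g : SU3) *ᵥ v) g'.2.choose_spec).trans ?_)
        refine (Matrix.mulVec_smul _ _ _).trans ((congrArg (fun v => g'.2.choose • v) g.2.choose_spec).trans ?_)
        rw [smul_smul, mul_comm])) }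
  have hψ : ∀ (g : ↥(pointStab F q e)) (μ : F), suMat (g : SU3) *ᵥ e = μ • e → (ψ g : F) = μ := fun g μ hg =>
    smul_left_injective F he0 (g.2.choose_spec.symm.trans hg)
  set U := radical hF e H.ee
  -- the orbit of `f`
  have horbit : ∀ x, hf q x x = 0 → hf q x e = 1 → ∃ u ∈ U, suMat u *ᵥ f = x := by
    intro x hx hxe
    set b := x - hf q x f • e - hf q x e • f with hb
    have hbW : InW q e f b := inW_proj hF H x
    have hxd : x = f + b + hf q x f • e := by rw [hb, hxe, one_smul]; abel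
    have hs : hf q x f + hf q x f ^ q + hf q b b = 0 := by
      have h1 := hx
      set s := hf q x f
      rw [hxd] at h1
      simp only [herm_add_left, herm_smul_left, herm_add_right hF, herm_smul_right hF, H.ff, H.ee, H.ef, hfe,
        hbW.1, hbW.2, hf_swap_zero hF hbW.1, hf_swap_zero hF hbW.2] at h1
      linear_combination h1
    refine ⟨eich hF e b (hf q x f) H.ee hbW.1 hs, ⟨b, _, hbW.1, rfl⟩, ?_⟩
    rw [show suMat (eich hF e b (hf q x f) H.ee hbW.1 hs) = eichMat q e b (hf q x f) from rfl,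
      eichMat_apply_f hF H hbW]
    exact hxd.symm
  have huW : ∀ u ∈ U, ∃ b s, InW q e f b ∧ suMat u = eichMat q e b s ∧ suMat u *ᵥ f = f + b + s • e := by
    intro u hu
    obtain ⟨b, s, hb, hu'⟩ := (mem_radical hF H).1 hu
    exact ⟨b, s, hb, hu', by rw [hu', eichMat_apply_f hF H hb]⟩
  have hufix : ∀ u ∈ U, suMat u *ᵥ f = f → u = 1 := fun u hu h1 =>
    eq_one_of_fix hF H (suMat_mem_radical_fix hF H.ee hu) h1
  refine hasPattern_of_bruhat (C := Fˣ) ?_ U (pointStab F q e) w h (radical_pGroup hF H.ee) ?_ ?_ ?_ ψ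
    ?_ ?_ ?_ ?_ ?_ ?_ ?_ ?_
  · rw [Nat.card_units, hF, hq, ← pow_mul]
    intro hd
    have h1 : p ∣ p ^ (j * 2) := dvd_pow_self p (by omega)
    have hpos : 0 < p ^ (j * 2) := pow_pos (Fact.out : p.Prime).pos _
    have := Nat.dvd_sub h1 hd
    rw [show p ^ (j * 2) - (p ^ (j * 2) - 1) = 1 by omega] at this
    exact (Fact.out : p.Prime).ne_one (Nat.dvd_one.1 this)
  · intro hU
    have h1 : T ∈ U := suTv_mem_radical hF H.ee hc
    rw [hU, Subgroup.mem_bot] at h1
    have h2 := hT f
    rw [h1, suMat_one, Matrix.one_mulVec, hfe, mul_one, left_eq_add, smul_eq_zero] at h2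
    exact h2.elim hc0 he0
  · exact fun u hu => ⟨1, by rw [suMat_mem_radical_fix hF H.ee hu, one_smul]⟩
  · intro g hg
    obtain ⟨μ, hμ⟩ := hg
    refine Subgroup.mem_normalizer_iff.2 fun u => ⟨fun hu => radical_conj hF g H.ee hμ hu, fun hu => ?_⟩
    obtain ⟨ν, hν⟩ := inv_mem (show g ∈ pointStab F q e from ⟨μ, hμ⟩)
    simpa [mul_assoc] using radical_conj hF g⁻¹ H.ee hν hu
  · intro g hg
    have hge : suMat (g : SU3) *ᵥ e = e := by
      rw [g.2.choose_spec]
      have : g.2.choose = 1 := congrArg Units.val hg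
      rw [this, one_smul]
    set x := suMat (g : SU3) *ᵥ f
    obtain ⟨u, hu, hux⟩ := horbit x ((su_preserves _ f f).trans H.ff) (by
      show hf q (suMat (g : SU3) *ᵥ f) e = 1
      exact (congrArg (hf q (suMat (g : SU3) *ᵥ f)) hge.symm).trans ((su_preserves _ f e).trans hfe))
    have h1 : u⁻¹ * (g : SU3) = 1 := eq_one_of_fix hF H
      (by
        rw [suMat_mul, ← Matrix.mulVec_mulVec, hge]
        conv_lhs => rw [← suMat_mem_radical_fix hF H.ee hu]
        rw [su_inv_mulVec])
      (by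
        rw [suMat_mul, ← Matrix.mulVec_mulVec]
        show suMat u⁻¹ *ᵥ x = f
        rw [← hux, su_inv_mulVec])
    rw [inv_mul_eq_one] at h1
    exact h1 ▸ hu
  · intro g
    by_cases hxe : hf q (suMat g *ᵥ e) e = 0
    · left
      set x := suMat g *ᵥ e
      have hxx : hf q x x = 0 := (su_preserves g e e).trans H.ee
      obtain ⟨d, hd, b, Fr⟩ := exists_frame hF H
      obtain rfl : d = 1 := by omega
      have hxd : x = hf q x f • e + hf q x (b 0) • b 0 := by
        have := Fr.expand x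
        rwa [Fin.sum_univ_one, hxe, zero_smul, add_zero] at this
      have hxb : hf q x (b 0) = 0 := by
        set s := hf q x f
        set t := hf q x (b 0)
        rw [hxd] at hxx
        simp only [herm_add_left, herm_smul_left, herm_add_right hF, herm_smul_right hF, H.ee, (Fr.inW 0).1,
          hf_swap_zero hF (Fr.inW 0).1, Fr.on, if_pos] at hxx
        by_contra ht
        exact mul_ne_zero ht (pow_ne_zero q ht) (by linear_combination hxx)
      exact ⟨hf q x f, hxd.trans (by rw [hxb, zero_smul, add_zero])⟩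
    · right
      set x := suMat g *ᵥ e
      set l := hf q x e
      obtain ⟨u, hu, hux⟩ := horbit (l⁻¹ • x)
        (by rw [herm_smul_left, herm_smul_right hF, show hf q x x = 0 from (su_preserves g e e).trans H.ee,
          mul_zero, mul_zero])
        (by rw [herm_smul_left, inv_mul_cancel₀ hxe])
      refine ⟨u, hu, (u * w)⁻¹ * g, ⟨-(l * c), ?_⟩, by group⟩
      have hx : x = l • suMat u *ᵥ f := by rw [hux, smul_smul, mul_inv_cancel₀ hxe, one_smul]
      rw [_root_.mul_inv_rev, mul_assoc, suMat_mul, suMat_mul, ← Matrix.mulVec_mulVec, ← Matrix.mulVec_mulVec]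
      show suMat w⁻¹ *ᵥ (suMat u⁻¹ *ᵥ x) = _
      rw [hx, Matrix.mulVec_smul, su_inv_mulVec, Matrix.mulVec_smul, hwif, smul_smul, mul_neg]
  · intro u hu hb
    obtain ⟨μ, hμ⟩ := hb
    rw [suMat_mul, suMat_mul, ← Matrix.mulVec_mulVec, ← Matrix.mulVec_mulVec, hwe, Matrix.mulVec_smul,
      Matrix.mulVec_smul] at hμ
    have h1 := congrArg (fun v => suMat w *ᵥ v) hμ
    simp only [Matrix.mulVec_smul] at h1
    have hwu : suMat w *ᵥ (suMat w⁻¹ *ᵥ (suMat u *ᵥ f)) = suMat u *ᵥ f := by
      simpa using su_inv_mulVec w⁻¹ (suMat u *ᵥ f)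
    rw [hwu, hwe, smul_smul] at h1
    have h2 := congrArg (fun v => hf q v e) h1
    have huf : hf q (suMat u *ᵥ f) e = 1 := by
      conv_lhs => rw [← suMat_mem_radical_fix hF H.ee hu]
      rw [su_preserves, hfe]
    simp only [herm_smul_left, huf, hfe, mul_one] at h2
    rw [← h2] at h1
    exact hufix u hu (smul_right_injective _ (neg_ne_zero.2 (inv_ne_zero hc0)) h1)
  · exact ⟨a, hhe⟩
  · refine ⟨(a : F)⁻¹, ?_⟩
    rw [suMat_mul, suMat_mul, ← Matrix.mulVec_mulVec, ← Matrix.mulVec_mulVec, hwe, Matrix.mulVec_smul, hhf,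
      Matrix.mulVec_smul, Matrix.mulVec_smul, hwif, smul_smul, smul_smul]
    congr 1
    field_simp
  · refine Units.ext ?_
    rw [Units.val_pow_eq_pow_val, hψ _ _ hhe, ← Units.val_pow_eq_pow_val, ha1]
  · intro u hu hcomm
    obtain ⟨b, s, hb, -, huf⟩ := huW u hu
    have h1 : suMat (h * u) *ᵥ f = suMat (u * h) *ᵥ f := by rw [hcomm]
    rw [suMat_mul, suMat_mul, ← Matrix.mulVec_mulVec, ← Matrix.mulVec_mulVec, huf, hhf, Matrix.mulVec_add,
      Matrix.mulVec_add, Matrix.mulVec_smul, Matrix.mulVec_smul, hhe, hhf, hhW b hb, huf] at h1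
    have hs : s = 0 := by
      have h2 := congrArg (fun v => hf q v f) h1
      simp only [herm_add_left, herm_smul_left, H.ff, H.ef, hb.2] at h2
      have h3 : s * ((a : F) * a - 1) = 0 := by
        field_simp at h2
        linear_combination h2
      exact (mul_eq_zero.1 h3).resolve_right (sub_ne_zero.2 ha2)
    have hb0 : b = 0 := by
      rw [hs] at h1
      have h2 : ((a : F)⁻¹ - 1) • b = 0 := by
        funext i
        have h3 := congrFun h1 i
        simp only [Pi.add_apply, Pi.smul_apply, smul_eq_mul, Pi.zero_apply] at h3 ⊢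
        linear_combination -h3
      refine (smul_eq_zero.1 h2).resolve_left (sub_ne_zero.2 fun h4 => ha2 ?_)
      rw [inv_eq_one.1 h4, mul_one]
    exact hufix u hu (by rw [huf, hs, hb0, zero_smul, add_zero, add_zero])
  · rw [eq_top_iff, ← tvGroup_eq_top hF (n := 3) (by norm_num) (by
      rintro ⟨-, hq2⟩
      have := Nat.le_self_pow (by omega : j ≠ 0) p
      omega)]
    unfold tvGroup
    rw [Subgroup.closure_le]
    rintro A ⟨v, d, hv, hA⟩
    set M := U ⊔ U.map (MulAut.conj w).toMonoidHom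
    have hTe : ∀ d' : F, ∀ B : SU3, suMat B = Cfsg.unitaryTransvection 3 q e d' → B ∈ M := fun d' B hB =>
      Subgroup.mem_sup_left ⟨0, d', hf_zero_left e, hB.trans (eichMat_zero e d' (q_ne_zero hF)).symm⟩
    have hTf : ∀ d' : F, ∀ B : SU3, suMat B = Cfsg.unitaryTransvection 3 q f d' → B ∈ M := by
      intro d' B hB
      have h1 : suMat (w⁻¹ * B * w⁻¹⁻¹) = Cfsg.unitaryTransvection 3 q e (d' * (-c) ^ (q + 1)) := by
        rw [utv_conj w⁻¹ hB, hwif, utv_smul hF]
      refine Subgroup.mem_sup_right ⟨w⁻¹ * B * w⁻¹⁻¹, ⟨0, _, hf_zero_left e,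
        h1.trans (eichMat_zero e _ (q_ne_zero hF)).symm⟩, ?_⟩
      simp [mul_assoc]
    show A ∈ M
    by_cases hve : hf q v e = 0
    · obtain ⟨dd, hdd, b, Fr⟩ := exists_frame hF H
      obtain rfl : dd = 1 := by omega
      have hvd : v = hf q v f • e + hf q v (b 0) • b 0 := by
        have := Fr.expand v
        rwa [Fin.sum_univ_one, hve, zero_smul, add_zero] at this
      have hvb : hf q v (b 0) = 0 := by
        set s := hf q v f
        set t := hf q v (b 0)
        rw [hvd] at hv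
        simp only [herm_add_left, herm_smul_left, herm_add_right hF, herm_smul_right hF, H.ee, (Fr.inW 0).1,
          hf_swap_zero hF (Fr.inW 0).1, Fr.on, if_pos] at hv
        by_contra ht
        exact mul_ne_zero ht (pow_ne_zero q ht) (by linear_combination hv)
      rw [hvb, zero_smul, add_zero] at hvd
      rw [hvd, utv_smul hF] at hA
      exact hTe _ A hA
    · set l := hf q v e
      obtain ⟨u, hu, hux⟩ := horbit (l⁻¹ • v)
        (by rw [herm_smul_left, herm_smul_right hF, hv, mul_zero, mul_zero])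
        (by rw [herm_smul_left, inv_mul_cancel₀ hve])
      have hv' : v = l • suMat u *ᵥ f := by rw [hux, smul_smul, mul_inv_cancel₀ hve, one_smul]
      rw [hv', utv_smul hF] at hA
      have h1 : suMat (u⁻¹ * A * u⁻¹⁻¹) = Cfsg.unitaryTransvection 3 q f (d * l ^ (q + 1)) := by
        rw [utv_conj u⁻¹ hA, su_inv_mulVec]
      have h2 := mul_mem (mul_mem (Subgroup.mem_sup_left (T := U.map (MulAut.conj w).toMonoidHom) hu)
        (hTf _ _ h1)) (inv_mem (Subgroup.mem_sup_left (T := U.map (MulAut.conj w).toMonoidHom) hu))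
      have h3 : u * (u⁻¹ * A * u⁻¹⁻¹) * u⁻¹ = A := by group
      rw [h3] at h2
      exact h2

end CfsgLib.RankOneTorus
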